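import Groth.Agent.Surf.K459.Arak
import Groth.Agent.Surf.K455.Canon
import Groth.Agent.Surf.K379.Fib

/-!
# Euler characteristics of `f^*Ω_C`, `ω_{X/C}`, `ω_X` for a fibration over a rational curve

Node NUM (job 245) of S15101: `χ(ω_X) = χ(O_X)` and `χ(ω_{X/C}) = χ(f^*Ω_C) = χ(O_X) + 2(g - 1)` for a
fibration `f : X ⟶ C` of genus `g` over a curve of genus `0`.
-/

set_option autoImplicit false
universe u
open CategoryTheory CategoryTheory.Limits AlgebraicGeometry TopologicalSpace MonoidalCategory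

namespace K172.Num

open Groth.Agent Groth.Agent.Grpsch.PicGrp K464.Base K464.Curves K464.DegCurve K464.Cohom K464.PtCurve K464.FibCurve

variable (k : Type u) [Field k] [IsAlgClosed k] {X C : Scheme.{u}} [X.Over (Spec (CommRingCat.of k))]
  [C.Over (Spec (CommRingCat.of k))] (f : X ⟶ C) (g : ℕ)

theorem euler_curve [IsProper (C ↘ Spec (CommRingCat.of k))] [IsIntegral C] (hdim : topologicalKrullDim C = 1)
    (hC0 : Curv2.genus k C = 0) : Curv2.euler k C (Coh.structureModule C) = 1 := by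
  have h1 : Module.finrank k (Coh.HH C (Coh.structureModule C) 1) = 0 := hC0
  rw [CurvesC.CurveCoh.euler_eq k C hdim, VarietyA.CurveFin.finrank_h0_structure k C, h1]
  norm_num

theorem ker_fiberι {q : C} (hq : IsClosed ({q} : Set C)) [QuasiCompact f] :
    (f.fiberι q).ker = (pt hq).comap f := by
  have : IsClosedImmersion (C.fromSpecResidueField q) := isClosed_singleton_iff_isClosedImmersion.mp hq
  rw [K456.FibDiv.ker_fiberι]
  congr 1
  rw [Models.H50.PointInter.ker_eq_vanishingIdeal]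
  congr 1
  apply Closeds.ext
  rw [Closeds.coe_closure, Scheme.range_fromSpecResidueField, hq.closure_eq]
  rfl

theorem num (h : K379.Fib.IsFib k f g) (hC0 : Curv2.genus k C = 0) (WX : X.Modules)
    (hWX : ExtPow.IsExtPow 2 (Omega.sheaf (X ↘ (Spec (CommRingCat.of k)))) WX) (M : X.Modules)
    (hM : ClSub.IsInverseOf M ((Scheme.Modules.pullback f).obj (Omega.sheaf (C ↘ (Spec (CommRingCat.of k)))))) :
    Curv2.euler k X WX = Curv2.euler k X (Coh.structureModule X) ∧
    Curv2.euler k X (CohB1.tensorMod WX M) = Curv2.euler k X (Coh.structureModule X) + 2 * ((g : ℤ) - 1) ∧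
    Curv2.euler k X ((Scheme.Modules.pullback f).obj (Omega.sheaf (C ↘ (Spec (CommRingCat.of k))))) =
      Curv2.euler k X (Coh.structureModule X) + 2 * ((g : ℤ) - 1) := by
  have i1 := h.pX
  have i2 := h.sX
  have i3 := h.iX
  have i4 := h.pC
  have i5 := h.sC
  have i6 := h.iC
  have i7 := h.sur
  have hf := h.ovr
  have hdim := h.dX
  have hdimC := h.dC
  have hd : topologicalKrullDim X ≤ (2 : ℕ) := hdim.le
  have hr2 : SmoothOfRelativeDimension 2 (X ↘ Spec (CommRingCat.of k)) :=
    Picfga.CurveRelDim.smoothOfRelativeDimension_of_topologicalKrullDim_eq k X _ 2 hdim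
  have hr1 : SmoothOfRelativeDimension 1 (C ↘ Spec (CommRingCat.of k)) :=
    Picfga.CurveRelDim.smoothOfRelativeDimension_of_topologicalKrullDim_eq k C _ 1 hdimC
  have hW : PicF.IsInvertible WX := K455.Canon.isInvertible _ 2 hWX
  have hΩ : PicF.IsInvertible (Omega.sheaf (C ↘ Spec (CommRingCat.of k))) :=
    Ega2.QCohLocal.isFinLocFreeOfRank_one_iff.1 (Dual.H339.OmegaRank.isFinLocFreeOfRank_omega 1 _)
  have hB : PicF.IsInvertible ((Scheme.Modules.pullback f).obj (Omega.sheaf (C ↘ Spec (CommRingCat.of k)))) :=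
    Fdesc.LocGen.isInvertible_pullback f hΩ
  have hregC : ∀ c : C, IsRegularLocalRing (C.presheaf.stalk c) := fun c => S1535.result k C c
  have hpf := K464.FibCurve.isProper k f hf
  obtain ⟨q, hq, -, hg⟩ := h.fib
  have hfl : Flat f := K456.FlatCurve.flat_of_dominant f hregC hdimC.le
  have hEpt := isEff_pt k (C ↘ Spec (CommRingCat.of k)) hdimC hregC hq
  have hFib := isEff_fibre f hdimC hq hEpt
  rw [ker_fiberι f hq] at hg
  -- Euler characteristics with bounds
  have eLE : ∀ F : X.Modules, FGA.eulerCharLE k X F 2 = Curv2.euler k X F := fun F =>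
    Fga.IntAdd.eulerCharLE_eq k X 2 hd F
  have e1 : Curv2.euler k X WX = Curv2.euler k X (Coh.structureModule X) := by
    rw [← eLE, ← eLE, K455.SmoothRR.euler_W k hWX]
  obtain ⟨eM⟩ := hM
  have e2 : Curv2.euler k X ((Scheme.Modules.pullback f).obj (Omega.sheaf (C ↘ (Spec (CommRingCat.of k))))) =
      Curv2.euler k X (CohB1.tensorMod WX M) := by
    rw [← eLE, ← eLE, K455.SmoothRR.euler_dual k hWX hB ⟨Ega2.Tens.swap _ _ ≪≫ eM⟩]
  -- intersection numbers
  set φ := ic ((pt hq).comap f) hFib with hφ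
  have hφp : φ = pull f (ic (pt hq) hEpt) := (pull_ic f hEpt hFib).symm
  have a0 : dot k X φ φ = 0 := by rw [hφp]; exact dot_pull_pull k f hf hd hdimC hregC _ _
  have a1 : dot k X φ (mk WX hW) = 2 * (1 - (g : ℤ)) := by
    rw [hφ, K459.Arak.adjunction k hdim hWX hW hFib, ← hφ, a0, hg, zero_add]
  have a2 : fd f WX = 2 * ((g : ℤ) - 1) := by
    have := dot_pull_pt k f hf hd hdimC hq hEpt hW
    rw [← hφp, a1] at this
    linarith
  have a3 : dot k X (pull f (mk _ hΩ)) (mk WX hW) = -2 * (2 * ((g : ℤ) - 1)) := by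
    rw [dot_pull k f hf hd hdimC hregC (mk _ hΩ) hW, K459.Arak.degC_omega k hdimC hΩ, euler_curve k hdimC hC0, a2]
    ring
  have a4 : dot k X (pull f (mk _ hΩ)) (pull f (mk _ hΩ)) = 0 := dot_pull_pull k f hf hd hdimC hregC _ _
  have e3 : Curv2.euler k X ((Scheme.Modules.pullback f).obj (Omega.sheaf (C ↘ (Spec (CommRingCat.of k))))) =
      Curv2.euler k X (Coh.structureModule X) + 2 * ((g : ℤ) - 1) := by
    have := K455.SmoothRR.rr k hWX hd hB
    rw [eLE, eLE, intNum_eq_dot k X hd hB hB, intNum_eq_dot k X hd hB hW, ← pull_mk f hΩ, a3, a4] at this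
    linarith
  exact ⟨e1, e2 ▸ e3, e3⟩

end K172.Num
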